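import Groth.Agent.SteinLib.App
import Groth.Agent.ProperClopenLib.HenselGeneral
import Groth.Agent.ProperClopenLib.Components
import Groth.Agent.ProperClopenLib.CoupleToPair
import Groth.Agent.HenselLib.HenselizationExists
import Groth.Agent.GeomIrrLib.Conn

/-!
# Zariski's connectedness theorem
-/

set_option autoImplicit false
set_option linter.style.haveILetI false

universe u

open CategoryTheory CategoryTheory.Limits AlgebraicGeometry TopologicalSpace IsLocalRing

noncomputable section

namespace SteinLib

theorem connectedSpace_of_appTop {X : Scheme.{u}} {B : CommRingCat.{u}} [IsLocalRing B] (f : X ⟶ Spec B)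
    (h : IsIso f.appTop) : ConnectedSpace X := by
  let e : B ≃+* Γ(X, ⊤) := ((Scheme.ΓSpecIso B).symm ≪≫ asIso f.appTop).commRingCatIsoToRingEquiv
  have hne : Nonempty X := by
    by_contra hn
    rw [not_nonempty_iff] at hn
    haveI : Subsingleton Γ(X, ⊤) := by
      rw [show (⊤ : X.Opens) = ⊥ from Subsingleton.elim _ _]; infer_instance
    haveI : Subsingleton B := e.toEquiv.subsingleton
    exact false_of_nontrivial_of_subsingleton B
  rw [connectedSpace_iff_clopen]
  refine ⟨hne, fun U hU => ?_⟩
  obtain ⟨r, hr, rfl⟩ := ProperClopenLib.exists_idempotent_of_isClopen_scheme hU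
  have hid : IsIdempotentElem (e.symm r) := hr.map e.symm
  have h01 : e.symm r = 0 ∨ e.symm r = 1 := by
    rcases IsLocalRing.isUnit_or_isUnit_one_sub_self (e.symm r) with hu | hu
    · exact Or.inr (hu.mul_left_cancel (by rw [mul_one]; exact hid))
    · exact Or.inl (hu.mul_left_cancel (by rw [mul_zero, sub_mul, one_mul, hid.eq, sub_self]))
  rcases h01 with h0 | h1
  · left
    rw [show r = 0 from e.symm.injective (h0.trans (map_zero _).symm), Scheme.basicOpen_zero]
    rfl
  · right
    rw [show r = 1 from e.symm.injective (h1.trans (map_one _).symm), Scheme.basicOpen_of_isUnit _ isUnit_one]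
    rfl

theorem connectedSpace_closedFibre {X : Scheme.{u}} {B : Type u} [CommRing B] [HenselianLocalRing B]
    (f : X ⟶ Spec (CommRingCat.of B)) [IsProper f] (h : IsIso f.appTop) :
    ConnectedSpace ↥(pullback f (Spec.map (CommRingCat.ofHom (Ideal.Quotient.mk (maximalIdeal B))))) :=
  ((ProperClopenLib.lifts_fst f (maximalIdeal B)).connectedSpace_iff (Scheme.Hom.continuous _)).1
    (connectedSpace_of_appTop f h)

theorem gc_of_connected_isSepClosure {k : Type u} [Field k] {X : Scheme.{u}} (q : X ⟶ Spec (CommRingCat.of k))
    (L : Type u) [Field L] [Algebra k L] [IsSepClosure k L] (h : ConnectedSpace ↥(ConnBC.BC q L)) :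
    GeometricallyConnected q := by
  haveI : ConnectedSpace ↥(ConnBC.BC q (SeparableClosure k)) := by
    let e : L ≃ₐ[k] SeparableClosure k := IsSepClosure.equiv k L (SeparableClosure k)
    haveI := ConnBC.chg_surjective q (e.symm : SeparableClosure k →ₐ[k] L)
    exact (ConnBC.chg q (e.symm : SeparableClosure k →ₐ[k] L)).surjective.connectedSpace
      (ConnBC.chg q (e.symm : SeparableClosure k →ₐ[k] L)).continuous
  exact GeomIrrLib.gc_of_connected_sepClosure q

theorem connectedSpace_bc_fiber {X Y : Scheme.{u}} (f : X ⟶ Y) (y : Y) {L : CommRingCat.{u}}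
    (j : Spec L ⟶ Spec (Y.residueField y))
    (h : ConnectedSpace ↥(pullback f (j ≫ Y.fromSpecResidueField y))) :
    ConnectedSpace ↥(pullback (f.fiberToSpecResidueField y) j) := by
  have hp := (IsPullback.of_hasPullback (f.fiberToSpecResidueField y) j).paste_horiz
    (IsPullback.of_hasPullback f (Y.fromSpecResidueField y))
  exact hp.isoPullback.inv.surjective.connectedSpace hp.isoPullback.inv.continuous

/-- **Zariski's connectedness theorem**, over an arbitrary base. -/
theorem geometricallyConnected_of_isIso_app {X Y : Scheme.{u}} (f : X ⟶ Y) [IsProper f]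
    (hf : ∀ U : Y.Opens, IsAffineOpen U → IsIso (f.app U)) : GeometricallyConnected f := by
  rw [GeometricallyConnected.iff_geometricallyConnected_fiber]
  intro y
  let O := Y.presheaf.stalk y
  let B := HenselLib.SH O
  haveI : HenselianLocalRing B := Hensel.IsStrictHenselization.henselian (R := O)
  haveI := HenselLib.isSepClosure_SH (R := O)
  obtain ⟨U, hU, hyU, -⟩ := exists_isAffineOpen_mem_and_subset (X := Y) (x := y) (U := ⊤) trivial
  let g : Spec (CommRingCat.of B) ⟶ Y := Spec.map (CommRingCat.ofHom (algebraMap O B)) ≫ Y.fromSpecStalk y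
  haveI : Flat (Spec.map (CommRingCat.ofHom (algebraMap O B))) := by
    rw [HasRingHomProperty.Spec_iff (P := @Flat)]
    exact RingHom.flat_algebraMap_iff.2 (HenselLib.flat_hens _)
  haveI := flat_fromSpecStalk y
  have hg : ⊤ ≤ g ⁻¹ᵁ U := fun z _ => by
    have : g z ⤳ y := by
      have := Set.mem_range_self (f := Y.fromSpecStalk y) (Spec.map (CommRingCat.ofHom (algebraMap O B)) z)
      rw [Scheme.range_fromSpecStalk] at this
      exact this
    exact this.mem_open U.2 hyU
  have hconn := connectedSpace_closedFibre (pullback.snd f g) (isIso_snd_appTop f g hU hg (hf U hU))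
  let j : Spec (CommRingCat.of (ResidueField B)) ⟶ Spec (Y.residueField y) :=
    Spec.map (CommRingCat.ofHom (algebraMap (ResidueField O) (ResidueField B)))
  have hj : Spec.map (CommRingCat.ofHom (Ideal.Quotient.mk (maximalIdeal B))) ≫ g =
      j ≫ Y.fromSpecResidueField y := by
    show _ ≫ _ ≫ _ = _ ≫ Spec.map (Y.residue y) ≫ _
    simp only [j, ← Category.assoc, ← Spec.map_comp]
    congr 1
    refine Eq.trans ?_ (Spec.map_comp (Y.residue y) (CommRingCat.ofHom (algebraMap (ResidueField O) (ResidueField B))))
    congr 1
  refine gc_of_connected_isSepClosure (k := ResidueField O) (f.fiberToSpecResidueField y) (ResidueField B) ?_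
  refine connectedSpace_bc_fiber f y j ?_
  have hp := (IsPullback.of_hasPullback (pullback.snd f g)
    (Spec.map (CommRingCat.ofHom (Ideal.Quotient.mk (maximalIdeal B))))).paste_horiz (IsPullback.of_hasPullback f g)
  rw [← hj]
  exact hp.isoPullback.hom.surjective.connectedSpace hp.isoPullback.hom.continuous

end SteinLib
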