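import Mathlib

/-!
# Morphisms inducing isomorphisms on sections
-/

set_option autoImplicit false
set_option linter.style.haveILetI false

universe u

open CategoryTheory CategoryTheory.Limits AlgebraicGeometry TopologicalSpace Opposite

noncomputable section

namespace SteinLib

variable {X Y Z : Scheme.{u}}

theorem bijective_app_basicOpen (π : X ⟶ Z) [QuasiCompact π] [QuasiSeparated π] {V : Z.Opens}
    (hV : IsAffineOpen V) (h : IsIso (π.app V)) (g : Γ(Z, V)) :
    Function.Bijective (π.app (Z.basicOpen g)) := by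
  letI a1 : Algebra Γ(X, π ⁻¹ᵁ V) Γ(X, π ⁻¹ᵁ Z.basicOpen g) :=
    (X.presheaf.map (homOfLE (π.preimage_mono (Z.basicOpen_le g))).op).hom.toAlgebra
  haveI := hV.isLocalization_basicOpen g
  haveI : IsLocalization.Away (π.app V g) Γ(X, π ⁻¹ᵁ Z.basicOpen g) := by
    let : Algebra Γ(X, π ⁻¹ᵁ V) Γ(X, X.basicOpen (π.app _ g)) :=
      (X.presheaf.map (homOfLE (X.basicOpen_le _)).op).hom.toAlgebra
    dsimp +instances [a1]
    rw! (castMode := .all) [π.preimage_basicOpen g]
    exact isLocalization_basicOpen_of_qcqs (π.isCompact_preimage hV.isCompact)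
      (π.isQuasiSeparated_preimage hV.isQuasiSeparated) (π.app _ g)
  let e : Γ(Z, V) ≃+* Γ(X, π ⁻¹ᵁ V) := (asIso (π.app V)).commRingCatIsoToRingEquiv
  have hH : (Submonoid.powers g).map (e : Γ(Z, V) ≃* Γ(X, π ⁻¹ᵁ V)) = Submonoid.powers (π.app V g) :=
    Submonoid.map_powers (e : Γ(Z, V) ≃* Γ(X, π ⁻¹ᵁ V)) g
  have key : (IsLocalization.ringEquivOfRingEquiv Γ(Z, Z.basicOpen g) Γ(X, π ⁻¹ᵁ Z.basicOpen g) e hH :
      Γ(Z, Z.basicOpen g) →+* Γ(X, π ⁻¹ᵁ Z.basicOpen g)) = (π.app (Z.basicOpen g)).hom := by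
    refine IsLocalization.ringHom_ext (Submonoid.powers g) (RingHom.ext fun x => ?_)
    show IsLocalization.ringEquivOfRingEquiv _ _ e hH (algebraMap _ _ x) = π.app (Z.basicOpen g) (algebraMap _ _ x)
    rw [IsLocalization.ringEquivOfRingEquiv_eq]
    exact (congr($(π.naturality (homOfLE (Z.basicOpen_le g)).op) x)).symm
  rw [show ⇑(π.app (Z.basicOpen g)) = ⇑(π.app (Z.basicOpen g)).hom from rfl, ← key]
  exact (IsLocalization.ringEquivOfRingEquiv Γ(Z, Z.basicOpen g) Γ(X, π ⁻¹ᵁ Z.basicOpen g) e hH).bijective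

/-- A qcqs morphism inducing isomorphisms on sections over the members of an affine cover does so on
all opens. -/
theorem isIso_app_of_cover (π : X ⟶ Z) [QuasiCompact π] [QuasiSeparated π] {ι : Type u}
    (V : ι → Z.Opens) (hV : ∀ i, IsAffineOpen (V i)) (hcov : ∀ z : Z, ∃ i, z ∈ V i)
    (h : ∀ i, IsIso (π.app (V i))) (W : Z.Opens) : IsIso (π.app W) := by
  have hD : ∀ (W : Z.Opens) (z : Z), z ∈ W → ∃ D : Z.Opens, D ≤ W ∧ z ∈ D ∧ Function.Bijective (π.app D) := by
    intro W z hz
    obtain ⟨i, hi⟩ := hcov z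
    obtain ⟨g, hle, hg⟩ := (hV i).exists_basicOpen_le (V := W) ⟨z, hz⟩ hi
    exact ⟨Z.basicOpen g, hle, hg, bijective_app_basicOpen π (hV i) (h i) g⟩
  have hnat : ∀ {W' W : Z.Opens} (hle : W' ≤ W) (s : Γ(Z, W)),
      π.app W' (Z.presheaf.map (homOfLE hle).op s) =
        X.presheaf.map (homOfLE (π.preimage_mono hle)).op (π.app W s) :=
    fun hle s => congr($(π.naturality (homOfLE hle).op) s)
  have hinj : ∀ W : Z.Opens, Function.Injective (π.app W) := by
    intro W s t hst
    choose D hDle hzD hDbij using fun z : W => hD W z.1 z.2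
    refine TopCat.Sheaf.eq_of_locally_eq' Z.sheaf D W (fun z => homOfLE (hDle z))
      (fun z hz => Opens.mem_iSup.2 ⟨⟨z, hz⟩, hzD _⟩) s t fun z => ?_
    apply (hDbij z).1
    exact (hnat (hDle z) s).trans ((congrArg _ hst).trans (hnat (hDle z) t).symm)
  have hsurj : Function.Surjective (π.app W) := by
    intro t
    choose D hDle hzD hDbij using fun z : W => hD W z.1 z.2
    choose sf hsf using fun z : W => (hDbij z).2 (X.presheaf.map (homOfLE (π.preimage_mono (hDle z))).op t)
    obtain ⟨s, hs, -⟩ := TopCat.Sheaf.existsUnique_gluing' Z.sheaf D W (fun z => homOfLE (hDle z))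
      (fun z hz => Opens.mem_iSup.2 ⟨⟨z, hz⟩, hzD _⟩) sf (fun a b => by
        apply hinj (D a ⊓ D b)
        refine (hnat inf_le_left (sf a)).trans (Eq.trans ?_ (hnat inf_le_right (sf b)).symm)
        rw [hsf a, hsf b, ← ConcreteCategory.comp_apply, ← ConcreteCategory.comp_apply,
          ← Functor.map_comp, ← Functor.map_comp]
        rfl)
    refine ⟨s, ?_⟩
    refine TopCat.Sheaf.eq_of_locally_eq' X.sheaf (fun z => π ⁻¹ᵁ D z) (π ⁻¹ᵁ W)
      (fun z => homOfLE (π.preimage_mono (hDle z)))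
      (fun x hx => Opens.mem_iSup.2 ⟨⟨π x, hx⟩, hzD _⟩) _ _ fun z => ?_
    exact ((hnat (hDle z) s).symm.trans (congrArg (π.app (D z)) (hs z))).trans (hsf z)
  exact (ConcreteCategory.isIso_iff_bijective _).2 ⟨hinj W, hsurj⟩

theorem isIntegral_app (f : X ⟶ Y) [UniversallyClosed f] {U : Y.Opens} (hU : IsAffineOpen U) :
    (f.app U).hom.IsIntegral := by
  haveI : IsAffine U := hU
  haveI : UniversallyClosed (f ∣_ U) :=
    MorphismProperty.of_isPullback (isPullback_morphismRestrict f U).flip inferInstance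
  have h := isIntegral_appTop_of_universallyClosed (f ∣_ U)
  rw [Scheme.Hom.appTop, morphismRestrict_app] at h
  have h' := (RingHom.isIntegral_respectsIso.cancel_right_isIso _ _).1 h
  have key : ∀ V W : Y.Opens, V = W → (f.app V).hom.IsIntegral → (f.app W).hom.IsIntegral := by
    rintro V W rfl; exact id
  exact key _ _ U.ι_image_top h'

/-- The Stein factor has the same functions as the source. -/
theorem isIso_toNormalization_app (f : X ⟶ Y) [UniversallyClosed f] [QuasiSeparated f]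
    (U : f.normalization.Opens) : IsIso (f.toNormalization.app U) := by
  refine isIso_app_of_cover f.toNormalization (fun W : Y.affineOpens => f.fromNormalization ⁻¹ᵁ W.1)
    (fun W => W.2.preimage _) (fun z => ?_) (fun W => ?_) U
  · obtain ⟨W, hW, hzW, -⟩ := exists_isAffineOpen_mem_and_subset (X := Y) (x := f.fromNormalization z) (U := ⊤) trivial
    exact ⟨⟨W, hW⟩, hzW⟩
  · letI := (f.app W.1).hom.toAlgebra
    rw [f.toNormalization_app_preimage W]
    haveI : IsIso (CommRingCat.ofHom (integralClosure Γ(Y, W.1) Γ(X, f ⁻¹ᵁ W.1)).val.toRingHom) :=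
      (ConcreteCategory.isIso_iff_bijective _).2 ⟨Subtype.val_injective, fun x =>
        ⟨⟨x, isIntegral_app f W.2 x⟩, rfl⟩⟩
    exact @IsIso.comp_isIso _ _ _ _ _ _ _ inferInstance (@IsIso.comp_isIso _ _ _ _ _ _ _ ‹_› inferInstance)

/-- Global functions commute with flat base change to an affine scheme. -/
theorem isIso_snd_appTop (f : X ⟶ Y) [QuasiCompact f] [QuasiSeparated f] {T : Scheme.{u}} [IsAffine T]
    (g : T ⟶ Y) [Flat g] {U : Y.Opens} (hU : IsAffineOpen U) (hg : ⊤ ≤ g ⁻¹ᵁ U) (h : IsIso (f.app U)) :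
    IsIso (pullback.snd f g).appTop := by
  have hUY : (⊤ : (pullback f g).Opens) =
      pullback.fst f g ⁻¹ᵁ f ⁻¹ᵁ U ⊓ pullback.snd f g ⁻¹ᵁ ⊤ := by
    refine (top_le_iff.1 (le_inf ?_ (by simp))).symm
    rw [← Scheme.Hom.comp_preimage, pullback.condition, Scheme.Hom.comp_preimage]
    intro z _
    exact hg (show pullback.snd f g z ∈ (⊤ : T.Opens) from trivial)
  haveI := isIso_pushoutSection_of_isQuasiSeparated_of_flat_right (IsPullback.of_hasPullback f g) hg le_rfl
    (UY := (⊤ : (pullback f g).Opens)) hUY hU (isAffineOpen_top T) (f.isCompact_preimage hU.isCompact)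
    (f.isQuasiSeparated_preimage hU.isQuasiSeparated)
  haveI : IsIso (f.appLE U (f ⁻¹ᵁ U) le_rfl) := by rw [← Scheme.Hom.app_eq_appLE]; exact h
  have e : (pullback.snd f g).appTop = pushout.inr _ _ ≫
      pushoutSection (IsPullback.of_hasPullback f g) hg le_rfl (UY := (⊤ : (pullback f g).Opens)) hUY := by
    simp only [pushoutSection, pushout.inr_desc]
    exact Scheme.Hom.app_eq_appLE _
  rw [e]
  infer_instance

theorem flat_fromSpecStalk (y : Y) : Flat (Y.fromSpecStalk y) := by
  obtain ⟨U, hU, hyU, -⟩ := exists_isAffineOpen_mem_and_subset (X := Y) (x := y) (U := ⊤) trivial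
  rw [← hU.fromSpecStalk_eq_fromSpecStalk hyU, IsAffineOpen.fromSpecStalk]
  haveI : Flat (Spec.map (Y.presheaf.germ U y hyU)) := by
    rw [HasRingHomProperty.Spec_iff (P := @Flat)]
    letI := TopCat.Presheaf.algebra_section_stalk Y.presheaf (U := U) ⟨y, hyU⟩
    haveI := hU.isLocalization_stalk ⟨y, hyU⟩
    exact RingHom.flat_algebraMap_iff.2 (IsLocalization.flat _ (hU.primeIdealOf ⟨y, hyU⟩).asIdeal.primeCompl)
  infer_instance

end SteinLib
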