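import Groth.Agent.SteinLib.EtaleFactor
import Groth.Agent.ProperFlatModelLib.Basic
import Groth.Agent.S2549
import Groth.Agent.S1297

/-!
# The Stein factor of a proper flat family with geometrically reduced fibres is finite étale
-/

set_option autoImplicit false
set_option linter.style.haveILetI false

universe u

open CategoryTheory CategoryTheory.Limits AlgebraicGeometry TopologicalSpace

noncomputable section

namespace SteinLib

variable {X S : Scheme.{u}}

theorem etale_app_of_noetherian (f : X ⟶ S) [IsProper f] [Flat f] [LocallyOfFinitePresentation f]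
    [GeometricallyReduced f] [IsLocallyNoetherian S] {W : S.Opens} (hW : IsAffineOpen W) : (f.app W).hom.Etale := by
  haveI : IsNoetherianRing Γ(S, W) := IsLocallyNoetherian.component_noetherian ⟨W, hW⟩
  haveI : IsProper (f ∣_ W) := IsZariskiLocalAtTarget.restrict ‹IsProper f› W
  haveI : Flat (f ∣_ W) := IsZariskiLocalAtTarget.restrict ‹Flat f› W
  haveI : LocallyOfFinitePresentation (f ∣_ W) := IsZariskiLocalAtTarget.restrict ‹LocallyOfFinitePresentation f› W
  let g : (f ⁻¹ᵁ W : Scheme.{u}) ⟶ Spec (CommRingCat.of Γ(S, W)) := f ∣_ W ≫ hW.isoSpec.hom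
  haveI : GeometricallyReduced g :=
    (MorphismProperty.cancel_right_of_respectsIso (P := @GeometricallyReduced) _ _).mpr inferInstance
  haveI : IsIso hW.isoSpec.hom.appTop := inferInstanceAs (IsIso (Scheme.Γ.map hW.isoSpec.hom.op))
  have key : ∀ {Q : ∀ {R T : Type u} [CommRing R] [CommRing T], (R →+* T) → Prop} (hQ : RingHom.RespectsIso Q),
      Q ((Scheme.ΓSpecIso (CommRingCat.of Γ(S, W))).inv ≫ g.appTop).hom ↔ Q (f.app W).hom := by
    intro Q hQ
    have h1 : ∀ V V' : S.Opens, V = V' → (Q (f.app V).hom ↔ Q (f.app V').hom) := by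
      rintro V V' rfl; rfl
    refine (hQ.cancel_left_isIso _ _).trans ?_
    rw [Scheme.Hom.comp_appTop]
    refine (hQ.cancel_left_isIso _ _).trans ?_
    rw [morphismRestrict_appTop]
    refine (hQ.cancel_right_isIso _ _).trans ?_
    exact h1 _ _ W.ι_image_top
  exact (key RingHom.Etale.respectsIso).1
    (etale_appTop_of_noetherian g ((key RingHom.finite_respectsIso).2 (MiscFlat6.app_finite f hW)))

theorem etale_fromNormalization_of_noetherian (f : X ⟶ S) [IsProper f] [Flat f] [LocallyOfFinitePresentation f]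
    [GeometricallyReduced f] [IsLocallyNoetherian S] : Etale f.fromNormalization := by
  refine (HasRingHomProperty.iff_exists_appLE (P := @Etale)
    (RingHom.Etale.stableUnderComposition.stableUnderCompositionWithLocalizationAway
      (RingHom.Etale.propertyIsLocal.HoldsForLocalizationAway RingHom.Etale.containsIdentities)).left).2 fun z => ?_
  obtain ⟨W, hW, hzW, -⟩ := exists_isAffineOpen_mem_and_subset (X := S) (x := f.fromNormalization z) (U := ⊤) trivial
  refine ⟨⟨W, hW⟩, ⟨f.fromNormalization ⁻¹ᵁ W, hW.preimage _⟩, hzW, le_rfl, ?_⟩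
  rw [← Scheme.Hom.app_eq_appLE]
  letI := (f.app W).hom.toAlgebra
  rw [f.fromNormalization_app hW]
  refine (RingHom.Etale.respectsIso.cancel_right_isIso _ _).2 ?_
  let val : CommRingCat.of (integralClosure Γ(S, W) Γ(X, f ⁻¹ᵁ W)) ⟶ Γ(X, f ⁻¹ᵁ W) :=
    CommRingCat.ofHom (integralClosure Γ(S, W) Γ(X, f ⁻¹ᵁ W)).val.toRingHom
  haveI : IsIso val :=
    (ConcreteCategory.isIso_iff_bijective _).2 ⟨Subtype.val_injective, fun x => ⟨⟨x, isIntegral_app f hW x⟩, rfl⟩⟩
  refine (RingHom.Etale.respectsIso.cancel_right_isIso _ val).1 ?_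
  exact etale_app_of_noetherian f hW

/-- Geometric reducedness of a fibre passes to base changes. -/
theorem gr_fiber_baseChange {X₀ S₀ : Scheme.{u}} {f : X ⟶ S} {f₀ : X₀ ⟶ S₀} {g' : X ⟶ X₀} {g : S ⟶ S₀}
    (h : IsPullback g' f f₀ g) (s : S) [GeometricallyReduced (f₀.fiberToSpecResidueField (g s))] :
    GeometricallyReduced (f.fiberToSpecResidueField s) := by
  have h1 : IsPullback (pullback.fst f (S.fromSpecResidueField s) ≫ g') (f.fiberToSpecResidueField s) f₀
      (S.fromSpecResidueField s ≫ g) :=
    (IsPullback.of_hasPullback f (S.fromSpecResidueField s)).paste_horiz h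
  rw [← g.SpecMap_residueFieldMap_fromSpecResidueField] at h1
  let a : f.fiber s ⟶ f₀.fiber (g s) := pullback.lift (pullback.fst f (S.fromSpecResidueField s) ≫ g')
    (f.fiberToSpecResidueField s ≫ Spec.map (g.residueFieldMap s)) (by rw [Category.assoc]; exact h1.w)
  have h2 : IsPullback a (f.fiberToSpecResidueField s) (f₀.fiberToSpecResidueField (g s))
      (Spec.map (g.residueFieldMap s)) := by
    refine IsPullback.of_right (h₁₂ := pullback.fst f₀ (S₀.fromSpecResidueField (g s))) ?_
      (pullback.lift_snd _ _ _) (IsPullback.of_hasPullback _ _)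
    rw [pullback.lift_fst]
    exact h1
  exact MorphismProperty.of_isPullback h2 ‹GeometricallyReduced (f₀.fiberToSpecResidueField (g s))›

/-- Pointwise geometric reducedness gives geometric reducedness over a field. -/
theorem gr_of_forall_isGeomReducedAt {k : Type u} [Field k] {Z : Scheme.{u}} (q : Z ⟶ Spec (CommRingCat.of k))
    (h : ∀ z, FBase.IsGeomReducedAt q z) : GeometricallyReduced q := by
  refine ⟨geometrically_iff_of_commRing_of_isClosedUnderIsomorphisms.mpr fun F _ _ => ?_⟩
  haveI : ∀ z', _root_.IsReduced ((FBase.bc q F).presheaf.stalk z') := fun z' => h _ F z' rfl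
  exact isReduced_of_isReduced_stalk (FBase.bc q F)

theorem isGeomReducedAt_of_gr {k : Type u} [Field k] {Z : Scheme.{u}} (q : Z ⟶ Spec (CommRingCat.of k))
    [GeometricallyReduced q] (z : Z) : FBase.IsGeomReducedAt q z := fun K _ _ z' _ => by
  haveI : IsReduced (FBase.bc q K) := GeometricallyReduced.geometrically_isReduced _ _ _ (.of_hasPullback _ _)
  infer_instance

/-- The locus of geometrically reduced fibres of a proper flat family is open. -/
theorem exists_open_gr (f : X ⟶ S) [IsProper f] [Flat f] [LocallyOfFinitePresentation f] :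
    ∃ U : S.Opens, GeometricallyReduced (f ∣_ U) ∧
      ∀ s, GeometricallyReduced (f.fiberToSpecResidueField s) → s ∈ U := by
  let O : Set X := {x : X | FBase.IsGeomReducedAt (f.fiberToSpecResidueField (f.base x)) (f.asFiber x)}
  have hO : IsOpen O := Groth.Agent.S2549.result f
  refine ⟨⟨(f '' Oᶜ)ᶜ, (f.isClosedMap _ hO.isClosed_compl).isOpen_compl⟩, ?_, fun s hs => ?_⟩
  · refine ⟨geometrically_iff_forall_fiberToSpecResidueField.2 fun u => ?_⟩
    let U : S.Opens := ⟨(f '' Oᶜ)ᶜ, (f.isClosedMap _ hO.isClosed_compl).isOpen_compl⟩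
    have key : ∀ (s : S) (x : X), f x = s → x ∈ O → ∀ z : f.fiber s, f.fiberι s z = x →
        FBase.IsGeomReducedAt (k := S.residueField s) (f.fiberToSpecResidueField s) z := by
      rintro _ x rfl hx z hz
      obtain rfl : z = f.asFiber x := (f.fiberι (f x)).isEmbedding.injective (by rw [f.fiberι_asFiber, hz])
      exact hx
    haveI : GeometricallyReduced (f.fiberToSpecResidueField (U.ι u)) :=
      gr_of_forall_isGeomReducedAt (k := S.residueField (U.ι u)) _ fun z => by
        have hzs : f (f.fiberι (U.ι u) z) = U.ι u := by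
          have := Set.mem_range_self (f := f.fiberι (U.ι u)) z
          rwa [f.range_fiberι] at this
        exact key _ _ hzs (not_not.1 fun hx => u.2 ⟨_, hx, hzs⟩) z rfl
    exact (gr_fiber_baseChange (isPullback_morphismRestrict f U).flip u).geometrically_isReduced
  · rintro ⟨x, hx, rfl⟩
    exact hx (isGeomReducedAt_of_gr (k := S.residueField (f x)) _ _)

theorem isIso_of_isAffineHom_app {A B : Scheme.{u}} (h : A ⟶ B) [IsAffineHom h]
    (happ : ∀ V : B.Opens, IsAffineOpen V → IsIso (h.app V)) : IsIso h := by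
  show MorphismProperty.isomorphisms Scheme.{u} h
  rw [IsZariskiLocalAtTarget.iff_of_iSup_eq_top (P := MorphismProperty.isomorphisms Scheme.{u})
    (fun V : B.affineOpens => V.1) (iSup_affineOpens_eq_top B)]
  intro V
  show IsIso (h ∣_ V.1)
  haveI : IsAffine (V.1 : Scheme.{u}) := V.2
  haveI : IsAffine (h ⁻¹ᵁ V.1 : Scheme.{u}) := V.2.preimage h
  have key : ∀ W W' : B.Opens, W = W' → IsIso (h.app W') → IsIso (h.app W) := by rintro W W' rfl; exact id
  haveI := key _ _ V.1.ι_image_top (happ V.1 V.2)
  haveI : IsIso (h ∣_ V.1).appTop := by rw [morphismRestrict_appTop]; exact @IsIso.comp_isIso _ _ _ _ _ _ _ (key _ _ V.1.ι_image_top (happ V.1 V.2)) (Functor.map_isIso _ _)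
  haveI : IsIso ((h ∣_ V.1) ≫ (V.1 : Scheme.{u}).isoSpec.hom) := by
    rw [← Scheme.isoSpec_hom_naturality]; infer_instance
  exact IsIso.of_isIso_comp_right (h ∣_ V.1) (V.1 : Scheme.{u}).isoSpec.hom

set_option maxHeartbeats 800000 in
theorem finite_etale_of_qcqs (f : X ⟶ S) [IsProper f] [Flat f] [LocallyOfFinitePresentation f]
    [GeometricallyReduced f] [CompactSpace S] [QuasiSeparatedSpace S] :
    IsFinite f.fromNormalization ∧ Etale f.fromNormalization := by
  obtain ⟨X₀, S₀, f₀, g', g, hpb, hN, hp, hfl, hfp⟩ := ProperFlatModelLib.exists_model f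
  obtain ⟨U, hU, hmem⟩ := exists_open_gr f₀
  have hg : Set.range g ⊆ Set.range U.ι := by
    rintro _ ⟨s, rfl⟩
    rw [Scheme.Opens.range_ι]
    exact hmem _ (ProperFlatModelLib.gr_fiber_of_isPullback hpb s)
  let gU := IsOpenImmersion.lift U.ι g hg
  have hgU : gU ≫ U.ι = g := IsOpenImmersion.lift_fac _ _ hg
  let f₁ := f₀ ∣_ U
  have hsq : IsPullback (f₀ ⁻¹ᵁ U).ι f₁ f₀ U.ι := (isPullback_morphismRestrict f₀ U).flip
  let g₁ : X ⟶ (f₀ ⁻¹ᵁ U : Scheme.{u}) := hsq.lift g' (f ≫ gU) (by rw [Category.assoc, hgU]; exact hpb.w)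
  have h1 : IsPullback g₁ f f₁ gU := by
    refine IsPullback.of_right (h₁₂ := (f₀ ⁻¹ᵁ U).ι) ?_ (hsq.lift_snd _ _ _) hsq
    rw [hsq.lift_fst, hgU]
    exact hpb
  haveI : IsProper f₁ := IsZariskiLocalAtTarget.restrict hp U
  haveI : Flat f₁ := IsZariskiLocalAtTarget.restrict hfl U
  haveI : LocallyOfFinitePresentation f₁ := IsZariskiLocalAtTarget.restrict hfp U
  haveI : IsLocallyNoetherian (U : Scheme.{u}) := isLocallyNoetherian_of_isOpenImmersion U.ι
  haveI : Etale f₁.fromNormalization := etale_fromNormalization_of_noetherian f₁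
  haveI : IsFinite f₁.fromNormalization := Groth.Agent.S1297.result f₁
  let π := pullback.snd f₁.fromNormalization gU
  haveI : Etale π := MorphismProperty.pullback_snd _ _ ‹_›
  haveI : IsFinite π := MorphismProperty.pullback_snd _ _ ‹_›
  let q : X ⟶ pullback f₁.fromNormalization gU := h1.isoPullback.hom ≫ pm f₁ gU
  have hq : q ≫ π = f := by
    rw [Category.assoc, pm_snd]
    exact h1.isoPullback_hom_snd
  haveI : IsProper (q ≫ π) := by rw [hq]; infer_instance
  haveI : IsProper q := IsProper.of_comp q π
  haveI : Flat (q ≫ π) := by rw [hq]; infer_instance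
  haveI : LocallyOfFinitePresentation (q ≫ π) := by rw [hq]; infer_instance
  haveI : GeometricallyReduced (q ≫ π) := by rw [hq]; infer_instance
  obtain ⟨_, _, _⟩ := props_of_comp_etale q π
  haveI : GeometricallyConnected q :=
    (MorphismProperty.cancel_left_of_respectsIso (P := @GeometricallyConnected) _ _).mpr (geometricallyConnected_pm f₁ gU)
  let h := f.normalizationDesc q π hq.symm
  haveI : IsIso h := isIso_of_isAffineHom_app h fun V _ => by
    haveI : IsIso (f.toNormalization.app (h ⁻¹ᵁ V)) := isIso_toNormalization_app f _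
    haveI : IsIso ((f.toNormalization ≫ h).app V) := by
      rw [ConcreteCategory.isIso_iff_bijective, f.toNormalization_normalizationDesc]
      exact H0Lib.bijective_app_of_geometrically q V
    haveI : IsIso (h.app V ≫ f.toNormalization.app (h ⁻¹ᵁ V)) := by rw [← Scheme.Hom.comp_app]; exact this
    exact IsIso.of_isIso_comp_right (h.app V) (f.toNormalization.app (h ⁻¹ᵁ V))
  rw [← f.normalizationDesc_comp q π hq.symm]
  exact ⟨inferInstance, inferInstance⟩

/-- The Stein factor of a proper flat finitely presented family with geometrically reduced fibres is finite étale. -/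
theorem finite_etale_fromNormalization (f : X ⟶ S) [IsProper f] [Flat f] [LocallyOfFinitePresentation f]
    [GeometricallyReduced f] : IsFinite f.fromNormalization ∧ Etale f.fromNormalization := by
  have key : ∀ W : S.affineOpens, IsFinite (f.fromNormalization ∣_ W.1) ∧ Etale (f.fromNormalization ∣_ W.1) := by
    intro W
    let fW := pullback.snd f W.1.ι
    haveI : IsProper fW := MorphismProperty.pullback_snd _ _ inferInstance
    haveI : Flat fW := MorphismProperty.pullback_snd _ _ ‹Flat f›
    haveI : LocallyOfFinitePresentation fW := MorphismProperty.pullback_snd _ _ inferInstance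
    haveI : IsAffine (W.1 : Scheme.{u}) := W.2
    obtain ⟨h1, h2⟩ := finite_etale_of_qcqs fW
    let e := asIso (f.normalizationPullback W.1.ι) ≪≫
      (isPullback_morphismRestrict f.fromNormalization W.1).flip.isoPullback.symm
    have he : e.inv ≫ fW.fromNormalization = f.fromNormalization ∣_ W.1 := by
      rw [Iso.inv_comp_eq]
      simp only [e, Iso.trans_hom, asIso_hom, Iso.symm_hom, Category.assoc, IsPullback.isoPullback_inv_snd,
        f.normalizationPullback_snd]
      rfl
    rw [← he]
    exact ⟨inferInstance, inferInstance⟩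
  exact ⟨(IsZariskiLocalAtTarget.iff_of_iSup_eq_top (P := @IsFinite) (fun W : S.affineOpens => W.1)
      (iSup_affineOpens_eq_top S)).2 fun W => (key W).1,
    (IsZariskiLocalAtTarget.iff_of_iSup_eq_top (P := @Etale) (fun W : S.affineOpens => W.1)
      (iSup_affineOpens_eq_top S)).2 fun W => (key W).2⟩

end SteinLib
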