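import Groth.Agent.SteinLib.Conn

/-!
# The Stein factor
-/

set_option autoImplicit false

universe u

open CategoryTheory CategoryTheory.Limits AlgebraicGeometry

namespace SteinLib

variable {X S : Scheme.{u}} (f : X ⟶ S)

theorem isProper_toNormalization [IsProper f] : IsProper f.toNormalization := by
  haveI : IsProper (f.toNormalization ≫ f.fromNormalization) := by
    rw [f.toNormalization_fromNormalization]; infer_instance
  exact MorphismProperty.of_postcomp (W := @IsProper) (W' := @IsSeparated) f.toNormalization
    f.fromNormalization inferInstance this

/-- The map to the Stein factor has geometrically connected fibres. -/
theorem geometricallyConnected_toNormalization [IsProper f] : GeometricallyConnected f.toNormalization :=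
  haveI := isProper_toNormalization f
  geometricallyConnected_of_isIso_app f.toNormalization fun U _ => isIso_toNormalization_app f U

theorem surjective_toNormalization [IsProper f] : Surjective f.toNormalization :=
  haveI := geometricallyConnected_toNormalization f
  inferInstance

end SteinLib
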