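import Groth.Agent.SteinLib.Factor
import Groth.Agent.ProfSpecLib.Basic

/-!
# Connected components of fibres and the Stein factor
-/

set_option autoImplicit false
set_option linter.style.haveILetI false

universe u

open CategoryTheory CategoryTheory.Limits AlgebraicGeometry Topology

noncomputable section

namespace SteinLib

section Top

variable {α β : Type*} [TopologicalSpace α] [TopologicalSpace β] [TotallyDisconnectedSpace β] {p : α → β}

theorem connectedComponent_eq_preimage (hc : Continuous p) (hconn : ∀ b, IsPreconnected (p ⁻¹' {b}))
    (a : α) : connectedComponent a = p ⁻¹' {p a} := by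
  refine Set.Subset.antisymm (fun z hz => ?_) ((hconn _).subset_connectedComponent rfl)
  have h := hc.image_connectedComponent_subset a ⟨z, hz, rfl⟩
  rwa [connectedComponent_eq_singleton] at h

theorem eq_iff_connectedComponent_eq (hc : Continuous p) (hconn : ∀ b, IsPreconnected (p ⁻¹' {b}))
    (a a' : α) : p a = p a' ↔ connectedComponent a = connectedComponent a' := by
  refine ⟨fun h => ?_, fun h => ?_⟩
  · rw [connectedComponent_eq_preimage hc hconn, connectedComponent_eq_preimage hc hconn, h]
  · have h1 : a ∈ connectedComponent a' := h ▸ mem_connectedComponent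
    rw [connectedComponent_eq_preimage hc hconn] at h1
    exact h1

theorem bijective_connectedComponentsLift (hc : Continuous p) (hs : Function.Surjective p)
    (hconn : ∀ b, IsPreconnected (p ⁻¹' {b})) : Function.Bijective hc.connectedComponentsLift := by
  refine ⟨fun u v huv => ?_, fun b => ?_⟩
  · obtain ⟨a, rfl⟩ := ConnectedComponents.surjective_coe u
    obtain ⟨a', rfl⟩ := ConnectedComponents.surjective_coe v
    rw [hc.connectedComponentsLift_apply_coe, hc.connectedComponentsLift_apply_coe] at huv
    exact ConnectedComponents.coe_eq_coe.2 ((eq_iff_connectedComponent_eq hc hconn a a').1 huv)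
  · obtain ⟨a, rfl⟩ := hs b
    exact ⟨a, hc.connectedComponentsLift_apply_coe a⟩

theorem card_components_eq (hc : Continuous p) (hs : Function.Surjective p)
    (hconn : ∀ b, IsPreconnected (p ⁻¹' {b})) :
    ENat.card (ConnectedComponents α) = ENat.card β :=
  ENat.card_congr (Equiv.ofBijective _ (bijective_connectedComponentsLift hc hs hconn))

end Top

theorem finite_connectedComponents (α : Type*) [TopologicalSpace α] [TopologicalSpace.NoetherianSpace α] :
    Finite (ConnectedComponents α) := by
  haveI : Finite ↥(irreducibleComponents α) :=
    TopologicalSpace.NoetherianSpace.finite_irreducibleComponents.to_subtype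
  refine Finite.of_surjective (fun C : ↥(irreducibleComponents α) => ((C.2.1.1.some : α) : ConnectedComponents α)) ?_
  intro u
  obtain ⟨a, rfl⟩ := ConnectedComponents.surjective_coe u
  refine ⟨⟨irreducibleComponent a, irreducibleComponent_mem_irreducibleComponents a⟩, ?_⟩
  refine ConnectedComponents.coe_eq_coe.2 ?_
  exact connectedComponent_eq ((isIrreducible_irreducibleComponent.isConnected.isPreconnected.subset_connectedComponent
    (irreducibleComponent_mem_irreducibleComponents a).1.1.some_mem) mem_irreducibleComponent)

/-- Integral schemes over a field are totally disconnected. -/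
theorem totallyDisconnectedSpace_of_isIntegralHom {k : Type u} [Field k] {Z : Scheme.{u}}
    (q : Z ⟶ Spec (CommRingCat.of k)) [IsIntegralHom q] : TotallyDisconnectedSpace Z := by
  haveI : IsAffine Z := isAffine_of_isAffineHom q
  have h : ∀ p : PrimeSpectrum Γ(Z, ⊤), p.asIdeal.IsMaximal := fun p => by
    have hint : ((Scheme.ΓSpecIso (CommRingCat.of k)).inv ≫ q.appTop).hom.IsIntegral :=
      (RingHom.isIntegral_respectsIso.cancel_left_isIso _ _).2
        (IsIntegralHom.isIntegral_app q ⊤ (isAffineOpen_top _))
    letI := (((Scheme.ΓSpecIso (CommRingCat.of k)).inv ≫ q.appTop).hom : k →+* Γ(Z, ⊤)).toAlgebra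
    haveI : Algebra.IsIntegral k Γ(Z, ⊤) := ⟨hint⟩
    haveI := p.isPrime
    exact Ideal.isMaximal_of_isIntegral_of_isMaximal_comap (R := k) p.asIdeal
      (by rw [Ideal.eq_bot_of_prime (Ideal.comap (algebraMap k Γ(Z, ⊤)) p.asIdeal)]; exact Ideal.bot_isMaximal)
  obtain ⟨h1, h2, h3⟩ := ProfSpecLib.isProfinite Γ(Z, ⊤) h
  haveI : TotallyDisconnectedSpace ↥(Spec Γ(Z, ⊤)) := h3
  exact ⟨(Z.isoSpec.hom.homeomorph.isEmbedding.isTotallyDisconnected)
    (isTotallyDisconnected_of_totallyDisconnectedSpace _)⟩

variable {X S : Scheme.{u}} (f : X ⟶ S) [IsProper f]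

/-- The map of base changes to the Stein factor. -/
def pm {T : Scheme.{u}} (g : T ⟶ S) : pullback f g ⟶ pullback f.fromNormalization g :=
  pullback.map f g f.fromNormalization g f.toNormalization (𝟙 _) (𝟙 _) (by simp) (by simp)

theorem pm_snd {T : Scheme.{u}} (g : T ⟶ S) : pm f g ≫ pullback.snd _ _ = pullback.snd f g :=
  (pullback.lift_snd _ _ _).trans (Category.comp_id _)

theorem isPullback_pm {T : Scheme.{u}} (g : T ⟶ S) :
    IsPullback (pullback.fst f g) (pm f g) f.toNormalization (pullback.fst f.fromNormalization g) := by
  refine IsPullback.of_bot ?_ (pullback.lift_fst _ _ _).symm (IsPullback.of_hasPullback f.fromNormalization g)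
  rw [f.toNormalization_fromNormalization, pm_snd]
  exact IsPullback.of_hasPullback f g

theorem geometricallyConnected_pm {T : Scheme.{u}} (g : T ⟶ S) : GeometricallyConnected (pm f g) :=
  MorphismProperty.of_isPullback (isPullback_pm f g) (geometricallyConnected_toNormalization f)

theorem surjective_pm {T : Scheme.{u}} (g : T ⟶ S) : Function.Surjective (pm f g) :=
  haveI := geometricallyConnected_pm f g
  (pm f g).surjective

theorem isPreconnected_pm_fiber {T : Scheme.{u}} (g : T ⟶ S) (b : ↥(pullback f.fromNormalization g)) :
    _root_.IsPreconnected (pm f g ⁻¹' {b}) :=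
  haveI := geometricallyConnected_pm f g
  ((pm f g).isConnected_preimage_singleton b).isPreconnected

variable {k : Type u} [Field k] (g : Spec (CommRingCat.of k) ⟶ S)

theorem totallyDisconnectedSpace_factor : TotallyDisconnectedSpace ↥(pullback f.fromNormalization g) :=
  totallyDisconnectedSpace_of_isIntegralHom (pullback.snd f.fromNormalization g)

/-- The connected components over a field-valued point are the points of the Stein factor. -/
theorem card_components_pullback :
    ENat.card (_root_.ConnectedComponents ↥(pullback f g)) = ENat.card ↥(pullback f.fromNormalization g) :=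
  haveI := totallyDisconnectedSpace_factor f g
  card_components_eq (pm f g).continuous (surjective_pm f g) (isPreconnected_pm_fiber f g)

theorem pm_eq_iff (a a' : ↥(pullback f g)) :
    pm f g a = pm f g a' ↔ connectedComponent a = connectedComponent a' :=
  haveI := totallyDisconnectedSpace_factor f g
  eq_iff_connectedComponent_eq (pm f g).continuous (isPreconnected_pm_fiber f g) a a'

theorem finite_components_pullback : Finite (_root_.ConnectedComponents ↥(pullback f g)) := by
  haveI : IsLocallyNoetherian (pullback f g) := LocallyOfFiniteType.isLocallyNoetherian (pullback.snd f g)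
  haveI : CompactSpace ↥(pullback f g) := QuasiCompact.compactSpace_of_compactSpace (pullback.snd f g)
  haveI : IsNoetherian (pullback f g) := {}
  exact finite_connectedComponents _

theorem finite_factor : Finite ↥(pullback f.fromNormalization g) := by
  haveI := totallyDisconnectedSpace_factor f g
  haveI := finite_components_pullback f g
  exact Finite.of_equiv _ (Equiv.ofBijective _
    (bijective_connectedComponentsLift (pm f g).continuous (surjective_pm f g) (isPreconnected_pm_fiber f g)))

end SteinLib
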