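import Groth.Agent.SteinLib.EtaleMain
import Groth.Agent.H0Lib.Rigidity
import Groth.Prelude.Def_FEt

/-!
# Pulling back finite étale covers along a morphism with `f_*O = O` is fully faithful
-/

set_option autoImplicit false
set_option linter.style.haveILetI false

universe u

open CategoryTheory CategoryTheory.Limits AlgebraicGeometry TopologicalSpace

noncomputable section

namespace SteinLib

/-- Connected geometric fibres give geometric connectedness. -/
theorem gc_of_geometric_points {X S : Scheme.{u}} (f : X ⟶ S)
    (hc : ∀ (Ω : Type u) [Field Ω] [IsAlgClosed Ω] (σ : Spec (CommRingCat.of Ω) ⟶ S), ConnectedSpace ↥(pullback f σ)) :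
    GeometricallyConnected f := by
  refine ⟨fun K _ z Z fst snd h => ?_⟩
  let a : Spec (CommRingCat.of (AlgebraicClosure K)) ⟶ Spec (CommRingCat.of K) :=
    Spec.map (CommRingCat.ofHom (algebraMap K (AlgebraicClosure K)))
  haveI : Surjective a := ⟨fun p => ⟨Classical.arbitrary (PrimeSpectrum (AlgebraicClosure K)),
    Subsingleton.elim (α := PrimeSpectrum K) _ _⟩⟩
  have hp := (IsPullback.of_hasPullback snd a).paste_horiz h
  haveI : ConnectedSpace ↥(pullback f (a ≫ z)) := hc _ _
  haveI : Surjective (pullback.fst snd a) := MorphismProperty.pullback_fst _ _ ‹_›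
  let j : pullback f (a ≫ z) ⟶ Z := hp.isoPullback.inv ≫ pullback.fst snd a
  haveI : Surjective j := inferInstance
  exact (inferInstance : Surjective j).surj.connectedSpace j.continuous

/-- A morphism to a scheme affine over the base factors through `g` when `g_*O = O`. -/
theorem exists_factor_affine {X' T S Y : Scheme.{u}} (g : X' ⟶ T) [IsProper g] [Surjective g]
    (hb : ∀ U : T.Opens, Function.Bijective (g.app U).hom) (p : T ⟶ S) (q : Y ⟶ S) [IsFinite q]
    (h : X' ⟶ Y) (w : h ≫ q = g ≫ p) : ∃ k : T ⟶ Y, g ≫ k = h ∧ k ≫ q = p := by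
  haveI : IsIso g.fromNormalization := isIso_of_isAffineHom_app g.fromNormalization fun V _ => by
    haveI : IsIso (g.toNormalization.app (g.fromNormalization ⁻¹ᵁ V)) := isIso_toNormalization_app g _
    haveI : IsIso ((g.toNormalization ≫ g.fromNormalization).app V) := by
      rw [ConcreteCategory.isIso_iff_bijective, g.toNormalization_fromNormalization]
      exact hb V
    haveI : IsIso (g.fromNormalization.app V ≫ g.toNormalization.app (g.fromNormalization ⁻¹ᵁ V)) := by
      rw [← Scheme.Hom.comp_app]; exact this
    exact IsIso.of_isIso_comp_right (g.fromNormalization.app V) (g.toNormalization.app (g.fromNormalization ⁻¹ᵁ V))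
  let j : X' ⟶ pullback p q := pullback.lift g h w.symm
  let d := g.normalizationDesc j (pullback.fst p q) (pullback.lift_fst _ _ _).symm
  let k : T ⟶ Y := inv g.fromNormalization ≫ d ≫ pullback.snd p q
  have hk : g ≫ k = h := by
    conv_lhs => rw [← g.toNormalization_fromNormalization]
    simp only [k, Category.assoc, IsIso.hom_inv_id_assoc]
    rw [← Category.assoc, g.toNormalization_normalizationDesc, pullback.lift_snd]
  refine ⟨k, hk, H0Lib.hom_ext_of_bijective g hb _ _ ?_⟩
  rw [reassoc_of% hk, w]

/-- Restriction of finite étale covers along `f` is fully faithful when the pullbacks of `f` along finite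
étale maps have `g_*O = O`. -/
theorem restrict_full_faithful_of_bijective {X S : Scheme.{u}} (f : X ⟶ S) [IsProper f] [Surjective f]
    (hb : ∀ A : FEt.Cat S, ∀ U : (A.left : Scheme.{u}).Opens,
      Function.Bijective ((pullback.fst A.hom f).app U).hom) :
    (FEt.restrict f).Full ∧ (FEt.restrict f).Faithful := by
  refine ⟨⟨fun {A B} ψ => ?_⟩, ⟨fun {A B} a b hab => ?_⟩⟩
  · haveI : IsFinite B.hom := B.prop.1
    haveI : IsProper (pullback.fst A.hom f) := MorphismProperty.pullback_fst _ _ inferInstance
    haveI : Surjective (pullback.fst A.hom f) := MorphismProperty.pullback_fst _ _ ‹Surjective f›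
    have hw : ψ.left ≫ pullback.snd B.hom f = pullback.snd A.hom f := MorphismProperty.Over.w ψ
    have hwf : (ψ.left ≫ pullback.fst B.hom f) ≫ B.hom = pullback.fst A.hom f ≫ A.hom :=
      (Category.assoc _ _ _).trans ((congrArg (ψ.left ≫ ·) (pullback.condition (f := B.hom) (g := f))).trans
        ((Category.assoc _ _ _).symm.trans ((congrArg (· ≫ f) hw).trans (pullback.condition (f := A.hom) (g := f)).symm)))
    obtain ⟨k, hk, hkq⟩ := exists_factor_affine (pullback.fst A.hom f) (hb A) A.hom B.hom
      (ψ.left ≫ pullback.fst B.hom f) hwf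
    refine ⟨MorphismProperty.Over.homMk k hkq, MorphismProperty.Over.Hom.ext (pullback.hom_ext ?_ ?_)⟩
    · exact (pullback.lift_fst _ _ _).trans hk
    · exact (pullback.lift_snd _ _ _).trans hw.symm
  · refine MorphismProperty.Over.Hom.ext ?_
    haveI : Surjective (pullback.fst A.hom f) := MorphismProperty.pullback_fst _ _ ‹Surjective f›
    have h1 := congrArg (fun z => z.left ≫ pullback.fst B.hom f) hab
    simp only [FEt.restrict] at h1
    exact H0Lib.hom_ext_of_bijective (pullback.fst A.hom f) (hb A) _ _
      ((pullback.lift_fst _ _ _).symm.trans (h1.trans (pullback.lift_fst _ _ _)))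

end SteinLib
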