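import Groth.Agent.SteinLib.App
import Groth.Agent.SteinLib.Fibre
import Groth.Agent.SteinLib.Conn
import Groth.Agent.H0Lib.Main
import Groth.Agent.HenselLib.HenselizationExists
import Groth.Agent.FFDescLib.EtaleGraph
import Groth.Agent.SweepSix.GeomConn
import Groth.Agent.MiscFlat6.ProperSections

/-!
# Global functions of proper flat families with geometrically reduced fibres are finite étale
-/

set_option autoImplicit false
set_option linter.style.haveILetI false

universe u

open CategoryTheory CategoryTheory.Limits AlgebraicGeometry TopologicalSpace IsLocalRing TensorProduct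

noncomputable section

namespace SteinLib

variable {X Y S : Scheme.{u}}

/-- Open subschemes of geometrically reduced families are geometrically reduced. -/
theorem gr_openImmersion_comp {V : Scheme.{u}} (j : V ⟶ X) [IsOpenImmersion j] (f : X ⟶ S) [GeometricallyReduced f] :
    GeometricallyReduced (j ≫ f) := by
  refine ⟨fun K _ z Z fst snd h => ?_⟩
  haveI : IsReduced (pullback f z) := GeometricallyReduced.geometrically_isReduced _ _ _ (.of_hasPullback f z)
  let m : Z ⟶ pullback f z := pullback.lift (fst ≫ j) snd (by rw [Category.assoc]; exact h.w)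
  have hm : IsPullback fst m j (pullback.fst f z) := by
    refine IsPullback.of_bot ?_ (pullback.lift_fst _ _ _).symm (IsPullback.of_hasPullback f z)
    rw [pullback.lift_snd]
    exact h
  haveI : IsOpenImmersion m := MorphismProperty.of_isPullback hm ‹IsOpenImmersion j›
  exact isReduced_of_isOpenImmersion m

/-- A morphism to an étale scheme factors as an open immersion followed by a base change of the composite. -/
theorem exists_graph (q : X ⟶ Y) (π : Y ⟶ S) [Etale π] :
    ∃ Γ : X ⟶ pullback (q ≫ π) π, IsOpenImmersion Γ ∧ Γ ≫ pullback.snd (q ≫ π) π = q := by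
  haveI : Etale (pullback.fst (q ≫ π) π) := MorphismProperty.pullback_fst _ _ ‹_›
  refine ⟨pullback.lift (𝟙 X) q (Category.id_comp _), ?_, pullback.lift_snd _ _ _⟩
  exact FFDescLib.isOpenImmersion_of_section (pullback.fst (q ≫ π) π) _ (pullback.lift_fst _ _ _)

theorem props_of_comp_etale (q : X ⟶ Y) (π : Y ⟶ S) [Etale π] [Flat (q ≫ π)] [GeometricallyReduced (q ≫ π)]
    [LocallyOfFinitePresentation (q ≫ π)] :
    Flat q ∧ LocallyOfFinitePresentation q ∧ GeometricallyReduced q := by
  obtain ⟨Γ, _, hΓ⟩ := exists_graph q π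
  haveI : Flat (pullback.snd (q ≫ π) π) := MorphismProperty.pullback_snd _ _ ‹_›
  haveI : LocallyOfFinitePresentation (pullback.snd (q ≫ π) π) := MorphismProperty.pullback_snd _ _ ‹_›
  haveI : GeometricallyReduced (pullback.snd (q ≫ π) π) := inferInstance
  rw [← hΓ]
  exact ⟨inferInstance, inferInstance, gr_openImmersion_comp Γ _⟩

/-- Reduced geometric fibres give geometric reducedness. -/
theorem gr_of_geometric_points (f : X ⟶ S)
    (hred : ∀ (Ω : Type u) [Field Ω] [IsAlgClosed Ω] (σ : Spec (CommRingCat.of Ω) ⟶ S), IsReduced (pullback f σ)) :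
    GeometricallyReduced f := by
  refine ⟨fun K _ z Z fst snd h => ?_⟩
  let a : Spec (CommRingCat.of (AlgebraicClosure K)) ⟶ Spec (CommRingCat.of K) :=
    Spec.map (CommRingCat.ofHom (algebraMap K (AlgebraicClosure K)))
  haveI : Flat a := by
    rw [HasRingHomProperty.Spec_iff (P := @Flat)]
    exact RingHom.flat_algebraMap_iff.2 inferInstance
  haveI : Surjective a := ⟨fun p => ⟨Classical.arbitrary (PrimeSpectrum (AlgebraicClosure K)),
    Subsingleton.elim (α := PrimeSpectrum K) _ _⟩⟩
  have hp := (IsPullback.of_hasPullback snd a).paste_horiz h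
  haveI : IsReduced (pullback f (a ≫ z)) := hred _ _
  haveI : IsReduced (pullback snd a) := isReduced_of_isOpenImmersion hp.isoPullback.hom
  haveI : Flat (pullback.fst snd a) := MorphismProperty.pullback_fst _ _ ‹_›
  haveI : Surjective (pullback.fst snd a) := MorphismProperty.pullback_fst _ _ ‹_›
  exact SweepSix.GeomConn.surj_isReduced (pullback.fst snd a) ‹_›

section Strict

variable {C : Type u} [CommRing C] [HenselianLocalRing C] [IsSepClosed (ResidueField C)]
  (f : X ⟶ Spec (CommRingCat.of C))

/-- A piece with connected closed fibre has only constant functions. -/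
theorem isIso_appTop_of_connected_closedFibre [IsProper f] [Flat f] [LocallyOfFinitePresentation f]
    [GeometricallyReduced f] (h : _root_.IsConnected (f ⁻¹' {closedPoint C})) : IsIso f.appTop := by
  refine H0Lib.isIso_appTop_of_local f ?_
  let k := ResidueField C
  let p : Spec (CommRingCat.of k) ⟶ Spec (CommRingCat.of C) := Spec.map (CommRingCat.ofHom (residue C))
  let q : pullback f p ⟶ Spec (CommRingCat.of k) := pullback.snd f p
  haveI : IsClosedImmersion p := IsClosedImmersion.spec_of_surjective _ residue_surjective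
  have hr : Set.range (pullback.fst f p) = f ⁻¹' {closedPoint C} := by
    rw [Scheme.Pullback.range_fst]
    refine congrArg (fun S => f ⁻¹' S) (Set.ext fun z => ⟨?_, fun hz => ⟨closedPoint k, ?_⟩⟩)
    · rintro ⟨w, rfl⟩
      obtain rfl : w = closedPoint k := Subsingleton.elim (α := PrimeSpectrum k) _ _
      exact IsLocalRing.comap_closedPoint (residue C)
    · rw [Set.mem_singleton_iff.1 hz]
      exact IsLocalRing.comap_closedPoint (residue C)
  haveI : Nonempty ↥(pullback f p) := by
    obtain ⟨x, hx⟩ := h.nonempty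
    obtain ⟨z, -⟩ : x ∈ Set.range (pullback.fst f p) := hr ▸ hx
    exact ⟨z⟩
  haveI : ConnectedSpace ↥(pullback f p) := by
    haveI : PreconnectedSpace ↥(pullback f p) :=
      ⟨(pullback.fst f p).isClosedEmbedding.isEmbedding.isInducing.isPreconnected_image.1
        (by rw [Set.image_univ, hr]; exact h.isPreconnected)⟩
    exact ⟨inferInstance⟩
  haveI : GeometricallyConnected q := by
    haveI : IsSepClosure k k := ⟨inferInstance, inferInstance⟩
    refine gc_of_connected_isSepClosure q k ?_
    haveI : IsIso (Spec.map (CommRingCat.ofHom (algebraMap k k))) := by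
      rw [Algebra.algebraMap_self, CommRingCat.ofHom_id, Spec.map_id]; infer_instance
    exact (pullback.fst q (Spec.map (CommRingCat.ofHom (algebraMap k k)))).homeomorph.connectedSpace_iff.2 inferInstance
  haveI : UniversallyClosed q := MorphismProperty.pullback_snd _ _ inferInstance
  exact H0Lib.isIso_appTop_of_field q

theorem bijective_pi {ι : Type u} (U : ι → X.Opens) (hcov : ∀ x, ∃ i, x ∈ U i)
    (hd : ∀ i j, i ≠ j → U i ⊓ U j = ⊥) :
    Function.Bijective (fun s : Γ(X, ⊤) => fun i => X.presheaf.map (homOfLE (le_top : U i ≤ ⊤)).op s) := by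
  refine ⟨fun s t h => TopCat.Sheaf.eq_of_locally_eq' X.sheaf U ⊤ (fun i => homOfLE le_top)
    (fun x _ => Opens.mem_iSup.2 (hcov x)) s t fun i => congrFun h i, fun s => ?_⟩
  obtain ⟨t, ht, -⟩ := TopCat.Sheaf.existsUnique_gluing' X.sheaf U ⊤ (fun i => homOfLE le_top)
    (fun x _ => Opens.mem_iSup.2 (hcov x)) s fun i j => by
      by_cases hij : i = j
      · subst hij
        rfl
      · have : Subsingleton Γ(X, U i ⊓ U j) := by rw [hd i j hij]; infer_instance
        exact @Subsingleton.elim _ this _ _
  exact ⟨t, funext ht⟩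

/-- Over a strictly henselian local ring the global functions form a finite product of the ring. -/
theorem etale_appTop_of_strictlyHenselian [IsProper f] [Flat f] [LocallyOfFinitePresentation f]
    [GeometricallyReduced f] :
    ((Scheme.ΓSpecIso (CommRingCat.of C)).inv ≫ f.appTop).hom.Etale := by
  classical
  let F : Set X := f ⁻¹' {closedPoint C}
  have hFc : IsClosed F := (isClosed_singleton_closedPoint (R := C)).preimage f.continuous
  haveI : LocallyOfFiniteType (f.fiberToSpecResidueField (closedPoint C)) :=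
    MorphismProperty.pullback_snd _ _ inferInstance
  haveI : IsLocallyNoetherian (f.fiber (closedPoint C)) :=
    LocallyOfFiniteType.isLocallyNoetherian (f.fiberToSpecResidueField _)
  haveI : IsNoetherian (f.fiber (closedPoint C)) := {}
  haveI : NoetherianSpace ↥F := NoetherianSpace.range (f.fiberHomeo (closedPoint C)) (f.fiberHomeo (closedPoint C)).continuous |> fun h => (noetherianSpace_iff_opens _).2 (fun s => (f.fiberHomeo (closedPoint C)).symm.isCompact_image.1 (NoetherianSpace.isCompact _))
  haveI : Finite (_root_.ConnectedComponents ↥F) := finite_connectedComponents _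
  letI : Algebra C Γ(X, ⊤) := ((Scheme.ΓSpecIso (CommRingCat.of C)).inv ≫ f.appTop).hom.toAlgebra
  -- lift the components
  have hz : f ⁻¹' PrimeSpectrum.zeroLocus ((maximalIdeal C : Ideal C) : Set C) = F := by
    refine congrArg (fun S => f ⁻¹' S) (Set.ext fun q => ?_)
    rw [PrimeSpectrum.mem_zeroLocus, SetLike.coe_subset_coe]
    exact ⟨fun hq => PrimeSpectrum.ext ((maximalIdeal.isMaximal C).eq_of_le (Ideal.IsPrime.ne_top inferInstance) hq).symm,
      fun hq => (congrArg PrimeSpectrum.asIdeal (Set.mem_singleton_iff.mp hq)).ge⟩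
  haveI : HenselianRing C (maximalIdeal C) := inferInstance
  have hlift : ∀ c : _root_.ConnectedComponents ↥F, ∃ U : X.Opens, IsClosed (U : Set X) ∧
      (U : Set X) ∩ F = Subtype.val '' (ConnectedComponents.mk ⁻¹' {c}) := fun c => by
    have hc : IsClopen (ConnectedComponents.mk ⁻¹' {c} : Set ↥F) :=
      ⟨(isClosed_discrete _).preimage ConnectedComponents.continuous_coe,
        (isOpen_discrete _).preimage ConnectedComponents.continuous_coe⟩
    obtain ⟨U, hU, hUF⟩ := ProperClopenLib.exists_clopen_lift_henselian f (maximalIdeal C)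
      (Subtype.val '' (ConnectedComponents.mk ⁻¹' {c} : Set ↥F)) (Subtype.val '' (ConnectedComponents.mk ⁻¹' {c})ᶜ)
      (hFc.isClosedEmbedding_subtypeVal.isClosedMap _ hc.isClosed)
      (hFc.isClosedEmbedding_subtypeVal.isClosedMap _ hc.compl.isClosed)
      (Set.disjoint_image_of_injective Subtype.val_injective disjoint_compl_right)
      (by rw [hz, ← Set.image_union, Set.union_compl_self, Set.image_univ, Subtype.range_coe])
    rw [hz] at hUF
    exact ⟨⟨U, hU.isOpen⟩, hU.isClosed, hUF⟩
  choose U hUc hUF using hlift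
  have hmeet : ∀ A : Set X, IsClosed A → A.Nonempty → (A ∩ F).Nonempty := by
    rintro A hA ⟨a, ha⟩
    obtain ⟨z, hz1, hz2⟩ := (IsLocalRing.specializes_closedPoint (f a)).mem_closed (f.isClosedMap _ hA) ⟨a, ha, rfl⟩
    exact ⟨z, hz1, hz2⟩
  have hcov : ∀ x, ∃ c, x ∈ U c := by
    by_contra hne
    push Not at hne
    obtain ⟨z, hz1, hzF⟩ := hmeet (⋂ c, (U c : Set X)ᶜ)
      (isClosed_iInter fun c => (U c).2.isClosed_compl) (by
        obtain ⟨x, hx⟩ := hne
        exact ⟨x, Set.mem_iInter.2 hx⟩)
    have : z ∈ (U (ConnectedComponents.mk ⟨z, hzF⟩) : Set X) ∩ F := by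
      rw [hUF]
      exact ⟨⟨z, hzF⟩, rfl, rfl⟩
    exact Set.mem_iInter.1 hz1 _ this.1
  have hd : ∀ c d, c ≠ d → U c ⊓ U d = ⊥ := fun c d hcd => by
    refine eq_bot_iff.2 fun x hx => ?_
    obtain ⟨z, hz1, hzF⟩ := hmeet ((U c : Set X) ∩ U d) ((hUc c).inter (hUc d)) ⟨x, hx⟩
    have h1 : z ∈ (U c : Set X) ∩ F := ⟨hz1.1, hzF⟩
    have h2 : z ∈ (U d : Set X) ∩ F := ⟨hz1.2, hzF⟩
    rw [hUF] at h1 h2
    obtain ⟨a, ha, rfl⟩ := h1
    obtain ⟨b, hb, hba⟩ := h2
    obtain rfl := Subtype.ext hba
    exact (hcd (ha.symm.trans hb)).elim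
  have hiso : ∀ c, IsIso ((U c).ι ≫ f).appTop := fun c => by
    haveI : IsClosedImmersion (U c).ι := .of_isPreimmersion _ (by rw [Scheme.Opens.range_ι]; exact hUc c)
    haveI := gr_openImmersion_comp (U c).ι f
    refine isIso_appTop_of_connected_closedFibre ((U c).ι ≫ f) ?_
    have himg : (U c).ι '' (((U c).ι ≫ f) ⁻¹' {closedPoint C}) = (U c : Set X) ∩ F := by
      rw [Scheme.Hom.comp_base, TopCat.coe_comp, Set.preimage_comp, Set.image_preimage_eq_range_inter,
        Scheme.Opens.range_ι]
    obtain ⟨a, rfl⟩ := ConnectedComponents.surjective_coe c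
    rw [hUF, connectedComponents_preimage_singleton] at himg
    refine ⟨?_, (U _).ι.isOpenEmbedding.isEmbedding.isInducing.isPreconnected_image.1 ?_⟩
    · refine Set.Nonempty.of_image (f := (U _).ι) ?_
      rw [himg]
      exact ⟨a, a, mem_connectedComponent, rfl⟩
    · rw [himg]
      exact isPreconnected_connectedComponent.image _ continuous_subtype_val.continuousOn
  -- assemble
  let r : Γ(X, ⊤) →+* (_root_.ConnectedComponents ↥F → C) := Pi.ringHom fun c =>
    haveI := hiso c
    ((U c).ι.appTop ≫ inv ((U c).ι ≫ f).appTop ≫ (Scheme.ΓSpecIso (CommRingCat.of C)).hom).hom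
  have hr : ∀ (a : C) c, r (algebraMap C Γ(X, ⊤) a) c = a := fun a c => by
    haveI := hiso c
    show (((Scheme.ΓSpecIso (CommRingCat.of C)).inv ≫ f.appTop) ≫
      ((U c).ι.appTop ≫ inv ((U c).ι ≫ f).appTop ≫ (Scheme.ΓSpecIso (CommRingCat.of C)).hom)).hom a = a
    have e : ((Scheme.ΓSpecIso (CommRingCat.of C)).inv ≫ f.appTop) ≫
        ((U c).ι.appTop ≫ inv ((U c).ι ≫ f).appTop ≫ (Scheme.ΓSpecIso (CommRingCat.of C)).hom) = 𝟙 _ := by
      rw [Category.assoc, ← Category.assoc f.appTop, ← Scheme.Hom.comp_appTop, IsIso.hom_inv_id_assoc, Iso.inv_hom_id]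
    rw [e]
    rfl
  have hbij : Function.Bijective r := by
    let t : ∀ c, Γ(X, U c) → C := fun c =>
      haveI := hiso c
      ((U c).topIso.inv ≫ inv ((U c).ι ≫ f).appTop ≫ (Scheme.ΓSpecIso (CommRingCat.of C)).hom).hom
    have ht : ∀ c, Function.Bijective (t c) := fun c =>
      haveI := hiso c
      ConcreteCategory.bijective_of_isIso ((U c).topIso.inv ≫ inv ((U c).ι ≫ f).appTop ≫ (Scheme.ΓSpecIso (CommRingCat.of C)).hom)
    have heq : ⇑r = (fun s => fun c => t c (s c)) ∘
        (fun s : Γ(X, ⊤) => fun c => X.presheaf.map (homOfLE (le_top : U c ≤ ⊤)).op s) := by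
      funext s c
      haveI := hiso c
      have e : (U c).ι.appTop = X.presheaf.map (homOfLE (le_top : U c ≤ ⊤)).op ≫ (U c).topIso.inv := by
        simp only [Scheme.Opens.topIso, Scheme.Opens.ι_appTop, Functor.mapIso_inv]
        refine Eq.trans ?_ (X.presheaf.map_comp _ _)
        exact congrArg X.presheaf.map (Subsingleton.elim _ _)
      exact (congrArg (fun m : Γ(X, ⊤) ⟶ Γ((U c : Scheme), ⊤) =>
        (m ≫ inv ((U c).ι ≫ f).appTop ≫ (Scheme.ΓSpecIso (CommRingCat.of C)).hom).hom s) e).trans rfl
    rw [heq]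
    exact (Function.Bijective.piMap ht).comp (bijective_pi U hcov hd)
  let e : Γ(X, ⊤) ≃ₐ[C] (_root_.ConnectedComponents ↥F → C) :=
    AlgEquiv.ofBijective { r with commutes' := fun a => funext (hr a) } hbij
  show (algebraMap C Γ(X, ⊤)).Etale
  rw [RingHom.etale_algebraMap]
  exact Algebra.Etale.of_equiv e.symm

end Strict

/-- Étaleness at a prime from étaleness over the localised base. -/
theorem formallyEtale_localization {A B : Type u} [CommRing A] [CommRing B] [Algebra A B] (Q : Ideal B) [Q.IsPrime]
    (p : Ideal A) [p.IsPrime] (hp : Q.comap (algebraMap A B) = p)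
    [Algebra.Etale (Localization.AtPrime p) (Localization.AtPrime p ⊗[A] B)] :
    Algebra.FormallyEtale A (Localization.AtPrime Q) := by
  let Ap := Localization.AtPrime p
  let Bp := Localization (Algebra.algebraMapSubmonoid B p.primeCompl)
  letI : Algebra Ap Bp := (IsLocalization.map (M := p.primeCompl) (T := Algebra.algebraMapSubmonoid B p.primeCompl) Bp
    (algebraMap A B) (fun a ha => Algebra.mem_algebraMapSubmonoid_of_mem ⟨a, ha⟩)).toAlgebra
  haveI : IsScalarTower A Ap Bp := 
    .of_algebraMap_eq fun a => (IsScalarTower.algebraMap_apply A B Bp a).trans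
      (IsLocalization.map_eq (M := p.primeCompl) (T := Algebra.algebraMapSubmonoid B p.primeCompl)
        (fun a ha => Algebra.mem_algebraMapSubmonoid_of_mem ⟨a, ha⟩) a).symm
  haveI : Algebra.IsPushout A Ap B Bp := (Algebra.isPushout_of_isLocalization p.primeCompl Ap B Bp).symm
  haveI : Algebra.Etale Ap Bp := Algebra.Etale.of_equiv (Algebra.IsPushout.equiv A Ap B Bp)
  haveI : Algebra.FormallyEtale A Ap := Algebra.FormallyEtale.of_isLocalization p.primeCompl
  haveI : Algebra.FormallyEtale A Bp := Algebra.FormallyEtale.comp A Ap Bp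
  have hle : Algebra.algebraMapSubmonoid B p.primeCompl ≤ Q.primeCompl := by
    rintro _ ⟨a, ha, rfl⟩
    exact fun h => ha (hp ▸ (Ideal.mem_comap.2 h))
  letI : Algebra Bp (Localization.AtPrime Q) :=
    IsLocalization.localizationAlgebraOfSubmonoidLe Bp (Localization.AtPrime Q) _ _ hle
  haveI : IsScalarTower B Bp (Localization.AtPrime Q) :=
    IsLocalization.localization_isScalarTower_of_submonoid_le Bp _ _ _ hle
  haveI : IsScalarTower A Bp (Localization.AtPrime Q) := .of_algebraMap_eq fun a => by
    rw [IsScalarTower.algebraMap_apply A B Bp, ← IsScalarTower.algebraMap_apply B Bp (Localization.AtPrime Q),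
      ← IsScalarTower.algebraMap_apply A B (Localization.AtPrime Q)]
  haveI : IsLocalization (Q.primeCompl.map (algebraMap B Bp)) (Localization.AtPrime Q) :=
    IsLocalization.isLocalization_of_submonoid_le Bp _ _ _ hle
  haveI : Algebra.FormallyEtale Bp (Localization.AtPrime Q) :=
    Algebra.FormallyEtale.of_isLocalization (Q.primeCompl.map (algebraMap B Bp))
  exact Algebra.FormallyEtale.comp A Bp (Localization.AtPrime Q)

/-- The global functions of a flat base change to a strictly henselian ring. -/
theorem etale_tensor_of_strictlyHenselian {A C : Type u} [CommRing A] [CommRing C] [Algebra A C] [Module.Flat A C]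
    [HenselianLocalRing C] [IsSepClosed (ResidueField C)] (f : X ⟶ Spec (CommRingCat.of A)) [IsProper f] [Flat f]
    [LocallyOfFinitePresentation f] [GeometricallyReduced f] :
    letI := ((Scheme.ΓSpecIso (CommRingCat.of A)).inv ≫ f.appTop).hom.toAlgebra
    Algebra.Etale C (C ⊗[A] Γ(X, ⊤)) := by
  letI : Algebra A Γ(X, ⊤) := ((Scheme.ΓSpecIso (CommRingCat.of A)).inv ≫ f.appTop).hom.toAlgebra
  let φ : CommRingCat.of A ⟶ CommRingCat.of C := CommRingCat.ofHom (algebraMap A C)
  let g := pullback.snd f (Spec.map φ)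
  haveI : IsProper g := MorphismProperty.pullback_snd _ _ inferInstance
  haveI : Flat g := MorphismProperty.pullback_snd _ _ ‹Flat f›
  haveI : LocallyOfFinitePresentation g := MorphismProperty.pullback_snd _ _ inferInstance
  have hC := etale_appTop_of_strictlyHenselian g
  have sq := H0Lib.isPushout_ring (IsPullback.of_hasPullback f (Spec.map φ)) (RingHom.flat_algebraMap_iff.2 inferInstance)
  have hT := CommRingCat.isPushout_tensorProduct A C Γ(X, ⊤)
  let e := sq.flip.isoIsPushout _ _ hT
  have he : ((Scheme.ΓSpecIso (CommRingCat.of C)).inv ≫ g.appTop) ≫ e.hom =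
      CommRingCat.ofHom (algebraMap C (C ⊗[A] Γ(X, ⊤))) :=
    IsPushout.inl_isoIsPushout_hom _ _ sq.flip hT
  rw [← RingHom.etale_algebraMap]
  have := RingHom.Etale.respectsIso.left _ e.commRingCatIsoToRingEquiv hC
  rw [show algebraMap C (C ⊗[A] Γ(X, ⊤)) = (CommRingCat.ofHom (algebraMap C (C ⊗[A] Γ(X, ⊤)))).hom from rfl, ← he]
  exact this

/-- Global functions over a Noetherian affine base are étale. -/
theorem etale_appTop_of_noetherian {A : Type u} [CommRing A] [IsNoetherianRing A] (f : X ⟶ Spec (CommRingCat.of A))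
    [IsProper f] [Flat f] [LocallyOfFinitePresentation f] [GeometricallyReduced f]
    (hfin : ((Scheme.ΓSpecIso (CommRingCat.of A)).inv ≫ f.appTop).hom.Finite) :
    ((Scheme.ΓSpecIso (CommRingCat.of A)).inv ≫ f.appTop).hom.Etale := by
  letI : Algebra A Γ(X, ⊤) := ((Scheme.ΓSpecIso (CommRingCat.of A)).inv ≫ f.appTop).hom.toAlgebra
  haveI : Module.Finite A Γ(X, ⊤) := hfin
  haveI : Algebra.FinitePresentation A Γ(X, ⊤) := Algebra.FinitePresentation.of_finiteType.1 inferInstance
  show (algebraMap A Γ(X, ⊤)).Etale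
  rw [RingHom.etale_algebraMap, ← Algebra.etaleLocus_eq_univ_iff_etale]
  refine Set.eq_univ_of_forall fun Q => ?_
  let p := Q.asIdeal.comap (algebraMap A Γ(X, ⊤))
  let Ap := Localization.AtPrime p
  let C := HenselLib.SH Ap
  haveI : HenselianLocalRing C := Hensel.IsStrictHenselization.henselian (R := Ap)
  haveI := HenselLib.isSepClosure_SH (R := Ap)
  haveI : IsSepClosed (ResidueField C) := IsSepClosure.sep_closed (ResidueField Ap)
  haveI : Module.Flat Ap C := HenselLib.flat_hens _
  haveI : Module.FaithfullyFlat Ap C := Module.FaithfullyFlat.of_flat_of_isLocalHom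
  letI : Algebra A C := ((algebraMap Ap C).comp (algebraMap A Ap)).toAlgebra
  haveI : IsScalarTower A Ap C := .of_algebraMap_eq fun _ => rfl
  haveI : Module.Flat A C := Module.Flat.trans A Ap C
  haveI : Algebra.Etale C (C ⊗[A] Γ(X, ⊤)) := etale_tensor_of_strictlyHenselian f
  haveI : Algebra.Etale C (C ⊗[Ap] (Ap ⊗[A] Γ(X, ⊤))) :=
    Algebra.Etale.of_equiv (Algebra.TensorProduct.cancelBaseChange A Ap C C Γ(X, ⊤)).symm
  haveI : Algebra.Etale Ap (Ap ⊗[A] Γ(X, ⊤)) := Algebra.Etale.of_etale_tensorProduct_of_faithfullyFlat C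
  exact formallyEtale_localization Q.asIdeal p rfl

end SteinLib
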