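import Groth.Agent.SteinLib.Fibre
import Groth.Prelude.Def_Flat

/-!
# Universal homeomorphisms between Stein factors
-/

set_option autoImplicit false
set_option linter.style.haveILetI false

universe u

open CategoryTheory CategoryTheory.Limits AlgebraicGeometry Topology

noncomputable section

namespace SteinLib

theorem isUnivHomeo_of {X Y : Scheme.{u}} (h : X ⟶ Y) [IsIntegralHom h] [Surjective h]
    (hinj : ∀ (K : Type u) [Field K] (z : Spec (CommRingCat.of K) ⟶ Y), Subsingleton ↥(pullback h z)) :
    FlatMor.IsUnivHomeo h := by
  intro X' Y' i₁ i₂ f' H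
  haveI : IsIntegralHom f' := MorphismProperty.of_isPullback H.flip ‹IsIntegralHom h›
  haveI : Surjective f' := MorphismProperty.of_isPullback H.flip ‹Surjective h›
  refine isHomeomorph_iff_continuous_isClosedMap_bijective.2
    ⟨f'.continuous, f'.isClosedMap, fun a b hab => ?_, f'.surjective⟩
  have hp := (IsPullback.of_hasPullback f' (Y'.fromSpecResidueField (f' a))).paste_horiz H.flip
  haveI := hinj (Y'.residueField (f' a)) (Y'.fromSpecResidueField (f' a) ≫ i₂)
  haveI : Subsingleton ↥(f'.fiber (f' a)) :=
    hp.isoPullback.hom.homeomorph.toEquiv.subsingleton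
  obtain ⟨a₁, ha₁⟩ : a ∈ Set.range (f'.fiberι (f' a)) := by rw [f'.range_fiberι]; rfl
  obtain ⟨b₁, hb₁⟩ : b ∈ Set.range (f'.fiberι (f' a)) := by rw [f'.range_fiberι]; exact hab.symm
  rw [← ha₁, ← hb₁, Subsingleton.elim a₁ b₁]

variable {X S : Scheme.{u}} (f : X ⟶ S) [IsProper f]

theorem isUnivHomeo_fromNormalization [GeometricallyConnected f] : FlatMor.IsUnivHomeo f.fromNormalization := by
  haveI : Surjective f.fromNormalization := by
    haveI : Surjective (f.toNormalization ≫ f.fromNormalization) := by
      rw [f.toNormalization_fromNormalization]; infer_instance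
    exact Surjective.of_comp f.toNormalization f.fromNormalization
  refine isUnivHomeo_of _ fun K _ z => ?_
  haveI := totallyDisconnectedSpace_factor f z
  haveI : ConnectedSpace ↥(pullback f z) :=
    GeometricallyConnected.geometrically_connectedSpace _ _ _ (.of_hasPullback _ _)
  haveI : ConnectedSpace ↥(pullback f.fromNormalization z) :=
    (surjective_pm f z).connectedSpace (pm f z).continuous
  exact ⟨fun a b => isPreconnected_univ.subsingleton trivial trivial⟩

theorem isUnivHomeo_normalizationPullback {T : Scheme.{u}} (g : T ⟶ S) :
    FlatMor.IsUnivHomeo (f.normalizationPullback g) := by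
  let fT := pullback.snd f g
  have hfac : fT.toNormalization ≫ f.normalizationPullback g = pm f g :=
    fT.toNormalization_normalizationDesc _ _ _
  haveI : Surjective (f.normalizationPullback g) := by
    refine ⟨fun p => ?_⟩
    obtain ⟨a, rfl⟩ := surjective_pm f g p
    exact ⟨fT.toNormalization a, by rw [← Scheme.Hom.comp_apply, hfac]⟩
  refine isUnivHomeo_of _ fun K _ z => ?_
  let h := f.normalizationPullback g
  let t := z ≫ pullback.snd f.fromNormalization g
  let e : pullback fT t ≅ pullback f (t ≫ g) := pullbackLeftPullbackSndIso f g t
  let m : pullback fT.fromNormalization t ⟶ pullback f.fromNormalization (t ≫ g) :=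
    pullback.lift (pullback.fst _ _ ≫ h ≫ pullback.fst _ _) (pullback.snd _ _) (by
      rw [Category.assoc, Category.assoc, pullback.condition (f := f.fromNormalization) (g := g),
        ← Category.assoc h, f.normalizationPullback_snd, ← Category.assoc, pullback.condition,
        Category.assoc])
  have hm : pm fT t ≫ m = e.hom ≫ pm f (t ≫ g) := by
    apply pullback.hom_ext
    · simp only [m, Category.assoc, pullback.lift_fst]
      rw [← Category.assoc, ← (isPullback_pm fT t).w, Category.assoc, reassoc_of% hfac,
        ← (isPullback_pm f (t ≫ g)).w, ← (isPullback_pm f g).w, ← Category.assoc, ← Category.assoc]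
      congr 1
      exact (pullbackLeftPullbackSndIso_hom_fst f g t).symm
    · simp only [m, Category.assoc, pullback.lift_snd, pm_snd]
      exact (pullbackLeftPullbackSndIso_hom_snd f g t).symm
  have hminj : Function.Injective m := fun a b hab => by
    obtain ⟨a', ha'⟩ := surjective_pm fT t a
    obtain ⟨b', hb'⟩ := surjective_pm fT t b
    rw [← ha', ← hb', ← Scheme.Hom.comp_apply, ← Scheme.Hom.comp_apply, hm, Scheme.Hom.comp_apply,
      Scheme.Hom.comp_apply, pm_eq_iff] at hab
    rw [← ha', ← hb', pm_eq_iff]
    have h1 : e.hom a' ∈ connectedComponent (e.hom b') := hab ▸ mem_connectedComponent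
    have h2 := e.inv.continuous.image_connectedComponent_subset (e.hom b') ⟨_, h1, rfl⟩
    rw [← Scheme.Hom.comp_apply, ← Scheme.Hom.comp_apply, e.hom_inv_id] at h2
    exact connectedComponent_eq h2 |>.symm
  let j : pullback h z ⟶ pullback fT.fromNormalization t :=
    pullback.mapDesc h z (pullback.snd f.fromNormalization g) ≫
      (pullback.congrHom (f.normalizationPullback_snd g) rfl).hom
  haveI : IsClosedImmersion (pullback.mapDesc h z (pullback.snd f.fromNormalization g)) := inferInstance
  have hjinj : Function.Injective j :=
    (pullback.congrHom (f.normalizationPullback_snd g) (rfl : t = t)).hom.homeomorph.injective.comp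
      (pullback.mapDesc h z (pullback.snd f.fromNormalization g)).isClosedEmbedding.injective
  have hjm : j ≫ m = pullback.snd h z ≫ pullback.lift (z ≫ pullback.fst f.fromNormalization g) (𝟙 _)
      (by rw [Category.id_comp, Category.assoc, pullback.condition, Category.assoc]) := by
    have hj1 : j ≫ pullback.fst fT.fromNormalization t = pullback.fst h z := by
      simp only [j, pullback.mapDesc, pullback.map, pullback.congrHom_hom, Category.assoc]
      erw [pullback.lift_fst, pullback.lift_fst_assoc]
      simp
    have hj2 : j ≫ pullback.snd fT.fromNormalization t = pullback.snd h z := by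
      simp only [j, pullback.mapDesc, pullback.map, pullback.congrHom_hom, Category.assoc]
      erw [pullback.lift_snd, pullback.lift_snd_assoc]
      simp
    apply pullback.hom_ext
    · simp only [m, Category.assoc, pullback.lift_fst]
      rw [reassoc_of% hj1, pullback.condition_assoc]
    · simp only [m, Category.assoc, pullback.lift_snd, hj2, Category.comp_id]
  refine ⟨fun a b => hjinj (hminj ?_)⟩
  rw [← Scheme.Hom.comp_apply, ← Scheme.Hom.comp_apply, hjm, Scheme.Hom.comp_apply, Scheme.Hom.comp_apply]
  exact congrArg _ (Subsingleton.elim _ _)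

end SteinLib
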